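import Groth.Prelude.Def_W4sga3xiixivxvCartan
import Mathlib.LinearAlgebra.Charpoly.BaseChange
import Mathlib.LinearAlgebra.Eigenspace.Zero
import Mathlib.RingTheory.Spectrum.Prime.FreeLocus
import Mathlib.RingTheory.Finiteness.Projective
import Mathlib.RingTheory.Polynomial.Nilpotent
import Mathlib.RingTheory.LocalRing.Module
import Mathlib.Algebra.Lie.BaseChange
import Mathlib.Algebra.Lie.EngelSubalgebra

/-!
Endomorphisms of finite projective modules, fibre by fibre, and the adjoint map
of a quasi-regular element of a relative Cartan subalgebra.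
-/

universe u

open scoped TensorProduct
open Polynomial Module

namespace Groth.Agent.AdFibre

theorem charpoly_comp_comm {K V W : Type*} [Field K] [AddCommGroup V] [Module K V]
    [AddCommGroup W] [Module K W] [Module.Finite K V] [Module.Finite K W]
    (f : W →ₗ[K] V) (g : V →ₗ[K] W) :
    X ^ finrank K V * (g ∘ₗ f).charpoly = X ^ finrank K W * (f ∘ₗ g).charpoly := by
  classical
  let bV := Module.finBasis K V
  let bW := Module.finBasis K W
  rw [← LinearMap.charpoly_toMatrix (g ∘ₗ f) bW, ← LinearMap.charpoly_toMatrix (f ∘ₗ g) bV,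
    LinearMap.toMatrix_comp bW bV bW, LinearMap.toMatrix_comp bV bW bV]
  have := Matrix.charpoly_mul_comm' (LinearMap.toMatrix bV bW g) (LinearMap.toMatrix bW bV f)
  simpa using this

variable {A : Type u} [CommRing A] {M : Type u} [AddCommGroup M] [Module A M] [Module.Finite A M]
  [Module.Projective A M]

/-- A monic polynomial killing `T` whose image at each prime is, up to a power of `X`, the
characteristic polynomial of the fibre of `T`. -/
theorem exists_charpoly (T : Module.End A M) :
    ∃ (n : ℕ) (P : A[X]), aeval T P = 0 ∧ ∀ p : PrimeSpectrum A,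
      X ^ finrank p.asIdeal.ResidueField (p.asIdeal.ResidueField ⊗[A] M) *
          P.map (algebraMap A p.asIdeal.ResidueField) =
        X ^ n * (T.baseChange p.asIdeal.ResidueField).charpoly := by
  obtain ⟨n, f, s, -, -, hfs⟩ := Module.Finite.exists_comp_eq_id_of_projective A M
  set g : Module.End A (Fin n → A) := s ∘ₗ T ∘ₗ f with hg
  refine ⟨n, g.charpoly, ?_, fun p => ?_⟩
  · have hk : ∀ P : A[X], ∀ m, aeval g P (s m) = s (aeval T P m) := by
      intro P
      induction P using Polynomial.induction_on' with
      | add P Q hP hQ => intro m; simp [hP, hQ]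
      | monomial k a =>
        intro m
        simp only [aeval_monomial, Module.algebraMap_end_apply, Module.End.mul_apply, map_smul]
        congr 1
        induction k generalizing m with
        | zero => simp
        | succ k ih =>
          rw [pow_succ, pow_succ, Module.End.mul_apply, Module.End.mul_apply, ← ih]
          congr 1
          simp only [hg, LinearMap.comp_apply]
          rw [show f (s m) = m from LinearMap.congr_fun hfs m]
    ext m
    have := hk g.charpoly m
    rw [LinearMap.aeval_self_charpoly, LinearMap.zero_apply] at this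
    have h2 := congrArg f this
    rw [map_zero, show f (s _) = _ from LinearMap.congr_fun hfs _] at h2
    simpa using h2.symm
  · set K := p.asIdeal.ResidueField
    rw [← LinearMap.charpoly_baseChange]
    have h1 : g.baseChange K = s.baseChange K ∘ₗ (T.baseChange K ∘ₗ f.baseChange K) := by
      simp [hg, LinearMap.baseChange_comp]
    have h2 : (T.baseChange K ∘ₗ f.baseChange K) ∘ₗ s.baseChange K = T.baseChange K := by
      rw [LinearMap.comp_assoc, ← LinearMap.baseChange_comp, hfs, LinearMap.baseChange_id]
      rfl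
    rw [h1, charpoly_comp_comm, h2]
    have : finrank K (K ⊗[A] (Fin n → A)) = n := by
      rw [LinearEquiv.finrank_eq (TensorProduct.piScalarRight A K K (Fin n))]
      simp
    rw [this]

theorem isNilpotent_of_fibre (T : Module.End A M)
    (h : ∀ p : PrimeSpectrum A, IsNilpotent (T.baseChange p.asIdeal.ResidueField)) :
    IsNilpotent T := by
  obtain ⟨n, P, hP, hmap⟩ := exists_charpoly T
  have hnil : IsNilpotent (P - X ^ n) := by
    rw [Polynomial.isNilpotent_iff]
    intro i
    rw [← mem_nilradical, nilradical_eq_sInf, Submodule.mem_sInf]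
    intro (q : Ideal A) (hq : q.IsPrime)
    have hm := hmap ⟨q, hq⟩
    rw [(h ⟨q, hq⟩).charpoly_eq_X_pow_finrank, mul_comm (X ^ n)] at hm
    have hm' := (monic_X_pow _).isRegular.left hm
    have : algebraMap A q.ResidueField ((P - X ^ n).coeff i) = 0 := by
      rw [← Polynomial.coeff_map, Polynomial.map_sub, hm']
      simp
    exact Ideal.algebraMap_residueField_eq_zero.mp this
  have h2 := hnil.map (aeval T)
  rw [map_sub, hP, zero_sub, isNilpotent_neg_iff, map_pow, aeval_X] at h2
  obtain ⟨m, hm⟩ := h2
  exact ⟨n * m, by rw [pow_mul]; exact hm⟩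

omit [Module.Projective A M] in
theorem surjective_of_fibre (T : Module.End A M)
    (h : ∀ p : PrimeSpectrum A, Function.Surjective (T.baseChange p.asIdeal.ResidueField)) :
    Function.Surjective T := by
  set C := M ⧸ LinearMap.range T
  have hsup : Module.support A C = ∅ := by
    rw [Set.eq_empty_iff_forall_notMem]
    intro p hp
    rw [Module.mem_support_iff_nontrivial_residueField_tensorProduct] at hp
    set K := p.asIdeal.ResidueField
    let q := (LinearMap.range T).mkQ.baseChange K
    have hq : Function.Surjective q := by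
      have := LinearMap.lTensor_surjective K (LinearMap.range T).mkQ_surjective
      simpa [q, LinearMap.baseChange_eq_ltensor] using this
    have h0 : q ∘ₗ T.baseChange K = 0 := by
      rw [← LinearMap.baseChange_comp, LinearMap.range_mkQ_comp, LinearMap.baseChange_zero]
    refine not_subsingleton_iff_nontrivial.mpr hp ⟨fun x y => ?_⟩
    have key : ∀ z : K ⊗[A] C, z = 0 := fun z => by
      obtain ⟨w, rfl⟩ := hq z
      obtain ⟨v, rfl⟩ := h p w
      exact LinearMap.congr_fun h0 v
    rw [key x, key y]
  rw [Module.support_eq_empty_iff, Submodule.Quotient.subsingleton_iff] at hsup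
  exact LinearMap.range_eq_top.mp hsup

end Groth.Agent.AdFibre

namespace Groth.Agent.AdFibre

open SGA3t2b LieAlgebra

variable {A : Type u} [CommRing A] {L : Type u} [LieRing L] [LieAlgebra A L]
  [Module.Finite A L] [Module.Projective A L]

/-- The endomorphism of `L / H` induced by the adjoint map of an element of `H`. -/
def adQuot (H : LieSubalgebra A L) {b : L} (hbH : b ∈ H) : Module.End A (L ⧸ H.toSubmodule) :=
  H.toSubmodule.mapQ H.toSubmodule (LieAlgebra.ad A L b) fun _ hx => H.lie_mem hbH hx

theorem adQuot_mkQ (H : LieSubalgebra A L) {b : L} (hbH : b ∈ H) :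
    adQuot H hbH ∘ₗ H.toSubmodule.mkQ = H.toSubmodule.mkQ ∘ₗ LieAlgebra.ad A L b := by
  ext x; rfl

theorem exists_pow_eq_zero {H : LieSubalgebra A L} (hH : IsCartanRel H) {b : L} (hbH : b ∈ H) :
    ∃ N : ℕ, ∀ x ∈ H, ((LieAlgebra.ad A L b) ^ N) x = 0 := by
  have := hH.1
  -- `H` is finite projective, being a direct summand
  obtain ⟨σ, hσ⟩ := Module.projective_lifting_property H.toSubmodule.mkQ LinearMap.id
    H.toSubmodule.mkQ_surjective
  let π : L →ₗ[A] H := (LinearMap.id - σ ∘ₗ H.toSubmodule.mkQ).codRestrict H.toSubmodule (fun x => by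
    rw [← Submodule.Quotient.mk_eq_zero]
    have h := LinearMap.congr_fun hσ (H.toSubmodule.mkQ x)
    change H.toSubmodule.mkQ (x - σ (H.toSubmodule.mkQ x)) = 0
    rw [map_sub]
    exact sub_eq_zero.mpr h.symm)
  have hπ : π ∘ₗ H.toSubmodule.subtype = LinearMap.id := by
    ext x
    change (x : L) - σ (H.toSubmodule.mkQ (x : L)) = (x : L)
    rw [show H.toSubmodule.mkQ (x : L) = 0 from (Submodule.Quotient.mk_eq_zero _).mpr x.2,
      map_zero, sub_zero]
  haveI : Module.Finite A H :=
    Module.Finite.of_surjective π (fun x => ⟨x, LinearMap.congr_fun hπ x⟩)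
  haveI : Module.Projective A H := Module.Projective.of_split H.toSubmodule.subtype π hπ
  let b' : H := ⟨b, hbH⟩
  have hnilH : IsNilpotent (LieAlgebra.ad A H b') := by
    refine isNilpotent_of_fibre _ fun p => ?_
    have h1 := (hH.2 p).1
    have h2 := LieModule.isNilpotent_toEnd_of_isNilpotent p.asIdeal.ResidueField
      (p.asIdeal.ResidueField ⊗[A] H) (p.asIdeal.ResidueField ⊗[A] H)
      ((1 : p.asIdeal.ResidueField) ⊗ₜ[A] b')
    rwa [LieModule.toEnd_baseChange] at h2
  obtain ⟨N, hN⟩ := hnilH
  have hpow : ∀ (n : ℕ) (h : H), ((LieAlgebra.ad A L b) ^ n) (h : L) =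
      (((LieAlgebra.ad A H b') ^ n) h : H) := by
    intro n
    induction n with
    | zero => simp
    | succ n ih =>
      intro h
      rw [pow_succ, pow_succ, Module.End.mul_apply, Module.End.mul_apply, ← ih]
      rfl
  exact ⟨N, fun x hx => by simpa [hN] using hpow N ⟨x, hx⟩⟩

theorem le_engel {H : LieSubalgebra A L} (hH : IsCartanRel H) {b : L} (hbH : b ∈ H) :
    H ≤ LieSubalgebra.engel A b := fun x hx => by
  obtain ⟨N, hN⟩ := exists_pow_eq_zero hH hbH
  exact (LieSubalgebra.mem_engel_iff _ _ _).mpr ⟨N, hN x hx⟩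

theorem adQuot_fibre_injective {H : LieSubalgebra A L} (hH : IsCartanRel H) {b : L} (hbH : b ∈ H)
    (p : PrimeSpectrum A)
    (hb : LieAlgebra.IsRegular p.asIdeal.ResidueField ((1 : p.asIdeal.ResidueField) ⊗ₜ[A] b)) :
    Function.Injective ((adQuot H hbH).baseChange p.asIdeal.ResidueField) := by
  obtain ⟨N, hN⟩ := exists_pow_eq_zero hH hbH
  let Tq := adQuot H hbH
  have hTq := adQuot_mkQ H hbH
  -- fibres
  have hfib : fibreSubmodule p H =
      (LieSubalgebra.engel p.asIdeal.ResidueField
        ((1 : p.asIdeal.ResidueField) ⊗ₜ[A] b)).toSubmodule := by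
    refine Submodule.eq_of_le_of_finrank_eq ?_ ?_
    · rw [fibreSubmodule, Submodule.baseChange_eq_span, Submodule.span_le]
      rintro _ ⟨x, hx, rfl⟩
      change _ ∈ LieSubalgebra.engel _ _
      rw [LieSubalgebra.mem_engel_iff]
      refine ⟨N, ?_⟩
      have hb' : LieAlgebra.ad p.asIdeal.ResidueField (p.asIdeal.ResidueField ⊗[A] L)
          ((1 : p.asIdeal.ResidueField) ⊗ₜ[A] b) =
          (LieAlgebra.ad A L b).baseChange _ := LieModule.toEnd_baseChange _ _ _ _ b
      rw [hb', ← LinearMap.baseChange_pow]
      simp [hN x hx]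
    · rw [(hH.2 p).2.2, eq_comm]
      exact (isRegular_iff_finrank_engel_eq_rank _ _).mp hb
  set K := p.asIdeal.ResidueField
  rw [injective_iff_map_eq_zero]
  let q := H.toSubmodule.mkQ.baseChange K
  have hexact : Function.Exact (H.toSubmodule.subtype.baseChange K) q := by
    have := lTensor_exact K (LinearMap.exact_subtype_mkQ H.toSubmodule)
      H.toSubmodule.mkQ_surjective
    simpa [q, LinearMap.baseChange_eq_ltensor] using this
  have hq : Function.Surjective q := by
    have := LinearMap.lTensor_surjective K H.toSubmodule.mkQ_surjective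
    simpa [q, LinearMap.baseChange_eq_ltensor] using this
  intro y hy
  obtain ⟨x, rfl⟩ := hq y
  have h3 : q ((LieAlgebra.ad A L b).baseChange K x) = 0 := by
    rw [← LinearMap.comp_apply, ← LinearMap.baseChange_comp, ← hTq, LinearMap.baseChange_comp]
    exact hy
  have h4 : (LieAlgebra.ad A L b).baseChange K x ∈ fibreSubmodule p H := (hexact _).mp h3
  have h5 : LieAlgebra.ad K (K ⊗[A] L) ((1 : K) ⊗ₜ[A] b) =
      (LieAlgebra.ad A L b).baseChange _ := LieModule.toEnd_baseChange _ _ _ _ b
  rw [hfib, ← h5] at h4
  obtain ⟨n, hn⟩ := (LieSubalgebra.mem_engel_iff _ _ _).mp h4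
  have h6 : x ∈ fibreSubmodule p H := by
    rw [hfib]
    exact (LieSubalgebra.mem_engel_iff _ _ _).mpr ⟨n + 1, by
      rw [pow_succ, Module.End.mul_apply]; exact hn⟩
  exact (hexact _).mpr h6

/-- A relative Cartan subalgebra is the generalized kernel of the adjoint map of any quasi-regular
element which it contains. -/
theorem eq_engel_and_surjective {H : LieSubalgebra A L} (hH : IsCartanRel H) {b : L} (hbH : b ∈ H)
    (hb : IsQuasiRegular A L b) : H = LieSubalgebra.engel A b ∧ ∀ y, ∃ z, ⁅b, z⁆ - y ∈ H := by
  have hle := le_engel hH hbH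
  let Tq := adQuot H hbH
  have hTq := adQuot_mkQ H hbH
  have hsurj : Function.Surjective Tq := surjective_of_fibre _ fun p =>
    LinearMap.surjective_of_injective (adQuot_fibre_injective hH hbH p (hb p))
  have hinj : Function.Injective Tq := OrzechProperty.injective_of_surjective_endomorphism _ hsurj
  refine ⟨le_antisymm hle ?_, fun y => ?_⟩
  swap
  · obtain ⟨w, hw⟩ := hsurj (H.toSubmodule.mkQ y)
    obtain ⟨z, rfl⟩ := H.toSubmodule.mkQ_surjective w
    exact ⟨z, (Submodule.Quotient.eq _).mp hw⟩
  intro x hx
  obtain ⟨n, hn⟩ := (LieSubalgebra.mem_engel_iff _ _ _).mp hx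
  change x ∈ H.toSubmodule
  rw [← Submodule.Quotient.mk_eq_zero]
  clear hx
  induction n generalizing x with
  | zero => simp_all
  | succ n ih =>
    rw [pow_succ, Module.End.mul_apply] at hn
    refine hinj ?_
    rw [map_zero]
    exact ih hn

/-- A relative Cartan subalgebra is the generalized kernel of the adjoint map of any quasi-regular
element which it contains. -/
theorem eq_engel {H : LieSubalgebra A L} (hH : IsCartanRel H) {b : L} (hbH : b ∈ H)
    (hb : IsQuasiRegular A L b) : H = LieSubalgebra.engel A b :=
  (eq_engel_and_surjective hH hbH hb).1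

end Groth.Agent.AdFibre
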