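import Groth.Agent.AdFibre.Basic
import Mathlib.Algebra.Lie.CartanExists
import Mathlib.Algebra.Lie.Rank
import Mathlib.Algebra.Lie.Engel
import Mathlib.FieldTheory.IsAlgClosed.AlgebraicClosure
import Mathlib.RingTheory.Spectrum.Prime.FreeLocus

/-!
The rank and regular elements under extensions of the base field; Engel subalgebras of regular
elements are nilpotent; relative Cartan subalgebras attached to quasi-regular elements.
-/

universe u

open scoped TensorProduct
open Module

namespace Groth.Agent.AdFibre

open LieAlgebra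

section Field

attribute [local instance 100] LieRing.ofAssociativeRing

variable {K : Type u} [Field K] {V : Type u} [LieRing V] [LieAlgebra K V] [Module.Finite K V]
variable (K' : Type u) [Field K'] [Algebra K K']

/-- The rank does not change under an extension of the base field. -/
theorem rank_baseChange_field : rank K' (K' ⊗[K] V) = rank K V := by
  classical
  let b := Module.Free.chooseBasis K V
  let b' := Algebra.TensorProduct.basis K' b
  rw [rank_eq_natTrailingDegree K' (L := K' ⊗[K] V) (b := b'), rank_eq_natTrailingDegree K (L := V) (b := b)]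
  have h : (LieAlgebra.ad K' (K' ⊗[K] V)).toLinearMap =
      LinearMap.tensorProduct K K' V V ∘ₗ (LieAlgebra.ad K V).toLinearMap.baseChange K' := by
    ext x y
    simp [LinearMap.tensorProduct]
  rw [h, LinearMap.polyCharpoly_baseChange]
  simp only [Polynomial.natTrailingDegree, Polynomial.trailingDegree,
    Polynomial.support_map_of_injective _ (MvPolynomial.map_injective _ (algebraMap K K').injective)]

theorem isRegular_baseChange_field (x : V) :
    IsRegular K' ((1 : K') ⊗ₜ[K] x) ↔ IsRegular K x := by
  rw [isRegular_def, isRegular_def, rank_baseChange_field,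
    show LieAlgebra.ad K' (K' ⊗[K] V) ((1 : K') ⊗ₜ[K] x) = (LieAlgebra.ad K V x).baseChange K' from
      LieModule.toEnd_baseChange _ _ _ _ x,
    LinearMap.charpoly_baseChange, Polynomial.coeff_map]
  exact (map_ne_zero_iff _ (algebraMap K K').injective)

theorem rank_eq_of_lieEquiv_of_infinite [Infinite K] {W : Type u} [LieRing W] [LieAlgebra K W]
    [Module.Finite K W] (e : V ≃ₗ⁅K⁆ W) : rank K V = rank K W := by
  have key : ∀ {V W : Type u} [LieRing V] [LieAlgebra K V] [Module.Finite K V] [LieRing W]
      [LieAlgebra K W] [Module.Finite K W] (e : V ≃ₗ⁅K⁆ W), rank K W ≤ rank K V := by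
    intro V W _ _ _ _ _ _ e
    obtain ⟨x, hx⟩ := exists_isRegular K V
    rw [← (isRegular_iff_natTrailingDegree_charpoly_eq_rank K x).mp hx]
    have : LieAlgebra.ad K W (e x) = e.toLinearEquiv.conj (LieAlgebra.ad K V x) := by
      ext y
      simp only [LinearEquiv.conj_apply, LieAlgebra.ad_apply, LinearMap.comp_apply,
        LinearEquiv.coe_coe]
      exact ((e.toLieHom.map_lie x (e.symm y)).trans
        (congrArg (fun z => ⁅e x, z⁆) (e.apply_symm_apply y))).symm
    refine (rank_le_natTrailingDegree_charpoly_ad K (e x)).trans (le_of_eq ?_)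
    rw [this, LinearEquiv.charpoly_conj]
  exact le_antisymm (key e.symm) (key e)

/-- The base change of an isomorphism of Lie algebras. -/
def lieEquivBaseChange {W : Type u} [LieRing W] [LieAlgebra K W] (e : V ≃ₗ⁅K⁆ W) :
    (K' ⊗[K] V) ≃ₗ⁅K'⁆ (K' ⊗[K] W) :=
  { LinearEquiv.baseChange K K' V W e.toLinearEquiv with
    map_lie' := fun {x y} => by
      change e.toLinearEquiv.toLinearMap.baseChange K' ⁅x, y⁆ =
        ⁅e.toLinearEquiv.toLinearMap.baseChange K' x, e.toLinearEquiv.toLinearMap.baseChange K' y⁆
      induction x using TensorProduct.induction_on with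
      | zero => simp
      | add x x' hx hx' => simp only [add_lie, map_add, hx, hx']
      | tmul a u =>
        induction y using TensorProduct.induction_on with
        | zero => simp
        | add y y' hy hy' => simp only [lie_add, map_add, hy, hy']
        | tmul b v =>
          rw [LieAlgebra.ExtendScalars.bracket_tmul, LinearMap.baseChange_tmul, LinearMap.baseChange_tmul,
            LinearMap.baseChange_tmul, LieAlgebra.ExtendScalars.bracket_tmul]
          exact congrArg (_ ⊗ₜ[K] ·) (e.toLieHom.map_lie u v) }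

theorem rank_eq_of_lieEquiv {W : Type u} [LieRing W] [LieAlgebra K W] [Module.Finite K W]
    (e : V ≃ₗ⁅K⁆ W) : rank K V = rank K W := by
  rw [← rank_baseChange_field (AlgebraicClosure K) (V := V), ← rank_baseChange_field (AlgebraicClosure K) (V := W)]
  exact rank_eq_of_lieEquiv_of_infinite (lieEquivBaseChange (AlgebraicClosure K) e)

theorem isNilpotent_engel_of_infinite [Infinite K] {x : V} (hx : IsRegular K x) :
    LieRing.IsNilpotent (LieSubalgebra.engel K x) := by
  have h : (finrank K V : Cardinal) ≤ Cardinal.mk K :=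
    Cardinal.natCast_le_aleph0.trans <| Cardinal.infinite_iff.mp ‹Infinite K›
  apply LieSubalgebra.isNilpotent_of_forall_le_engel
  intro y hy
  set Ex : {LieSubalgebra.engel K z | z ∈ LieSubalgebra.engel K x} :=
    ⟨LieSubalgebra.engel K x, x, LieSubalgebra.self_mem_engel _ _, rfl⟩
  suffices IsBot Ex from @this ⟨LieSubalgebra.engel K y, y, hy, rfl⟩
  apply engel_isBot_of_isMin h (LieSubalgebra.engel K x) Ex le_rfl
  rintro ⟨_, y, hy, rfl⟩ hyx
  suffices finrank K (LieSubalgebra.engel K x) ≤ finrank K (LieSubalgebra.engel K y) by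
    suffices LieSubalgebra.engel K y = LieSubalgebra.engel K x from this.ge
    apply LieSubalgebra.toSubmodule_injective
    exact Submodule.eq_of_le_of_finrank_le hyx this
  rw [(isRegular_iff_finrank_engel_eq_rank K x).mp hx]
  apply rank_le_finrank_engel

/-- The Engel subalgebra of a regular element is nilpotent, over any field. -/
theorem isNilpotent_engel {x : V} (hx : IsRegular K x) :
    LieRing.IsNilpotent (LieSubalgebra.engel K x) := by
  let L := AlgebraicClosure K
  have hn := isNilpotent_engel_of_infinite ((isRegular_baseChange_field L x).mpr hx)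
  let i : V →ₗ[K] L ⊗[K] V := TensorProduct.mk K L V 1
  have hi : Function.Injective i := Module.Flat.tensorProduct_mk_injective K V L
  have hlie : ∀ a b : V, i ⁅a, b⁆ = ⁅i a, i b⁆ := fun a b => by
    simp [i, LieAlgebra.ExtendScalars.bracket_tmul]
  have hpow : ∀ (n : ℕ) (a b : V), i ((LieAlgebra.ad K V a ^ n) b) = (LieAlgebra.ad L (L ⊗[K] V) (i a) ^ n) (i b) := by
    intro n
    induction n with
    | zero => simp
    | succ n ih =>
      intro a b
      rw [pow_succ, pow_succ, Module.End.mul_apply, Module.End.mul_apply, ih]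
      simp [hlie]
  have hmem : ∀ y ∈ LieSubalgebra.engel K x, i y ∈ LieSubalgebra.engel L ((1 : L) ⊗ₜ[K] x) := by
    intro y hy
    obtain ⟨n, hn⟩ := (LieSubalgebra.mem_engel_iff _ _ _).mp hy
    exact (LieSubalgebra.mem_engel_iff _ _ _).mpr ⟨n, by
      show (LieAlgebra.ad L (L ⊗[K] V) (i x) ^ n) (i y) = 0
      rw [← hpow, hn, map_zero]⟩
  rw [LieAlgebra.isNilpotent_iff_forall (R := K)]
  intro y
  have := hn
  obtain ⟨n, hn'⟩ := LieModule.isNilpotent_toEnd_of_isNilpotent L
    (LieSubalgebra.engel L ((1 : L) ⊗ₜ[K] x)) (LieSubalgebra.engel L ((1 : L) ⊗ₜ[K] x)) ⟨i y.1, hmem _ y.2⟩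
  refine ⟨n, LinearMap.ext fun z => Subtype.ext (hi ?_)⟩
  have e1 : ∀ (m : ℕ) (z : LieSubalgebra.engel K x),
      (((LieAlgebra.ad K (LieSubalgebra.engel K x) y) ^ m) z : V) = (LieAlgebra.ad K V y.1 ^ m) z.1 := by
    intro m
    induction m with
    | zero => simp
    | succ m ih => intro z; rw [pow_succ, pow_succ, Module.End.mul_apply, Module.End.mul_apply, ih]; rfl
  have e2 : ∀ (m : ℕ) (z : LieSubalgebra.engel L ((1 : L) ⊗ₜ[K] x)),
      (((LieModule.toEnd L (LieSubalgebra.engel L ((1 : L) ⊗ₜ[K] x)) (LieSubalgebra.engel L ((1 : L) ⊗ₜ[K] x)) ⟨i y.1, hmem _ y.2⟩) ^ m) z : L ⊗[K] V) =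
        (LieAlgebra.ad L (L ⊗[K] V) (i y.1) ^ m) z.1 := by
    intro m
    induction m with
    | zero => simp
    | succ m ih => intro z; rw [pow_succ, pow_succ, Module.End.mul_apply, Module.End.mul_apply, ih]; rfl
  rw [e1, hpow, show i z.1 = ((⟨i z.1, hmem _ z.2⟩ : LieSubalgebra.engel L ((1 : L) ⊗ₜ[K] x)) : L ⊗[K] V) from rfl,
    ← e2, hn']
  simp

end Field

/-- Cancelling a base change, as Lie algebras. -/
noncomputable def cancelLie (R S T : Type u) [CommRing R] [CommRing S] [CommRing T] [Algebra R S] [Algebra R T]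
    [Algebra S T] [IsScalarTower R S T] (V : Type u) [LieRing V] [LieAlgebra R V] :
    T ⊗[S] (S ⊗[R] V) ≃ₗ⁅T⁆ T ⊗[R] V :=
  LieEquiv.symm
  { (TensorProduct.AlgebraTensorModule.cancelBaseChange R S T T V).symm with
    map_lie' := fun {x y} => by
      change (TensorProduct.AlgebraTensorModule.cancelBaseChange R S T T V).symm ⁅x, y⁆ =
        ⁅(TensorProduct.AlgebraTensorModule.cancelBaseChange R S T T V).symm x,
          (TensorProduct.AlgebraTensorModule.cancelBaseChange R S T T V).symm y⁆
      induction x using TensorProduct.induction_on with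
      | zero => rw [zero_lie, map_zero]; exact (zero_lie (L := T ⊗[S] (S ⊗[R] V)) (M := T ⊗[S] (S ⊗[R] V)) _).symm
      | add x x' hx hx' => rw [add_lie, map_add, map_add, hx, hx']; exact (add_lie (L := T ⊗[S] (S ⊗[R] V)) (M := T ⊗[S] (S ⊗[R] V)) _ _ _).symm
      | tmul a u =>
        induction y using TensorProduct.induction_on with
        | zero => rw [lie_zero, map_zero]; exact (lie_zero (L := T ⊗[S] (S ⊗[R] V)) (M := T ⊗[S] (S ⊗[R] V)) _).symm
        | add y y' hy hy' => rw [lie_add, map_add, map_add, hy, hy']; exact (lie_add (L := T ⊗[S] (S ⊗[R] V)) (M := T ⊗[S] (S ⊗[R] V)) _ _ _).symm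
        | tmul b v =>
          simp only [LieAlgebra.ExtendScalars.bracket_tmul,
            TensorProduct.AlgebraTensorModule.cancelBaseChange_symm_tmul, _root_.mul_one] }

/-- The base change of a homomorphism of Lie algebras. -/
def lieHomBaseChange {R : Type u} [CommRing R] (S : Type u) [CommRing S] [Algebra R S] {V W : Type u}
    [LieRing V] [LieAlgebra R V] [LieRing W] [LieAlgebra R W] (g : V →ₗ⁅R⁆ W) :
    (S ⊗[R] V) →ₗ⁅S⁆ (S ⊗[R] W) :=
  { g.toLinearMap.baseChange S with
    map_lie' := fun {x y} => by
      change g.toLinearMap.baseChange S ⁅x, y⁆ =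
        ⁅g.toLinearMap.baseChange S x, g.toLinearMap.baseChange S y⁆
      induction x using TensorProduct.induction_on with
      | zero => simp
      | add x x' hx hx' => simp only [add_lie, map_add, hx, hx']
      | tmul a u =>
        induction y using TensorProduct.induction_on with
        | zero => simp
        | add y y' hy hy' => simp only [lie_add, map_add, hy, hy']
        | tmul b v => simp [LieAlgebra.ExtendScalars.bracket_tmul] }

section Converse

open SGA3t2b

variable {A : Type u} [CommRing A] {L : Type u} [LieRing L] [LieAlgebra A L]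
  [Module.Finite A L] [Module.Projective A L]

/-- A direct summand is sent injectively into each fibre. -/
theorem baseChange_subtype_injective {N : Submodule A L} [Module.Projective A (L ⧸ N)]
    (S : Type u) [CommRing S] [Algebra A S] : Function.Injective (N.subtype.baseChange S) := by
  obtain ⟨σ, hσ⟩ := Module.projective_lifting_property N.mkQ LinearMap.id N.mkQ_surjective
  let π : L →ₗ[A] N := (LinearMap.id - σ ∘ₗ N.mkQ).codRestrict N (fun x => by
    rw [← Submodule.Quotient.mk_eq_zero]
    change N.mkQ (x - σ (N.mkQ x)) = 0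
    rw [map_sub]
    exact sub_eq_zero.mpr (LinearMap.congr_fun hσ (N.mkQ x)).symm)
  have hπ : π ∘ₗ N.subtype = LinearMap.id := by
    ext x
    change (x : L) - σ (N.mkQ (x : L)) = (x : L)
    rw [show N.mkQ (x : L) = 0 from (Submodule.Quotient.mk_eq_zero _).mpr x.2, map_zero, sub_zero]
  intro x y h
  have := congrArg (π.baseChange S) h
  rwa [← LinearMap.comp_apply, ← LinearMap.comp_apply, ← LinearMap.baseChange_comp, hπ,
    LinearMap.baseChange_id] at this

set_option maxHeartbeats 400000 in
/-- If the quotient by the Engel submodule of a quasi-regular element is projective, and the adjoint map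
is surjective on it, then the Engel subalgebra is a relative Cartan subalgebra. -/
theorem isCartanRel_engel {a : L} (ha : IsQuasiRegular A L a)
    [Module.Projective A (L ⧸ (LieSubalgebra.engel A a).toSubmodule)]
    (hsurj : ∀ y : L, ∃ z : L, ⁅a, z⁆ - y ∈ LieSubalgebra.engel A a) :
    IsCartanRel (LieSubalgebra.engel A a) := by
  set H := LieSubalgebra.engel A a with hH
  refine ⟨inferInstance, fun p => ?_⟩
  set K := p.asIdeal.ResidueField with hK
  set x : K ⊗[A] L := (1 : K) ⊗ₜ[A] a
  have hadx : LieAlgebra.ad K (K ⊗[A] L) x = (LieAlgebra.ad A L a).baseChange K :=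
    LieModule.toEnd_baseChange _ _ _ _ a
  have hfib : fibreSubmodule p H = (LieSubalgebra.engel K x).toSubmodule := by
    refine le_antisymm ?_ fun w hw => ?_
    · rw [fibreSubmodule, Submodule.baseChange_eq_span, Submodule.span_le]
      rintro _ ⟨h, hh, rfl⟩
      obtain ⟨n, hn⟩ := (LieSubalgebra.mem_engel_iff _ _ _).mp hh
      refine (LieSubalgebra.mem_engel_iff _ _ _).mpr ⟨n, ?_⟩
      rw [hadx, ← LinearMap.baseChange_pow]
      simp [hn]
    · have hstab : H.toSubmodule ≤ H.toSubmodule.comap (LieAlgebra.ad A L a) :=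
        fun h hh => H.lie_mem (LieSubalgebra.self_mem_engel A a) hh
      let Tq : Module.End A (L ⧸ H.toSubmodule) :=
        H.toSubmodule.mapQ H.toSubmodule (LieAlgebra.ad A L a) hstab
      have hTq : Function.Surjective (Tq.baseChange K) := by
        have : Function.Surjective Tq := fun w => by
          obtain ⟨y, rfl⟩ := H.toSubmodule.mkQ_surjective w
          obtain ⟨z, hz⟩ := hsurj y
          exact ⟨H.toSubmodule.mkQ z, (Submodule.Quotient.eq _).mpr hz⟩
        simpa [LinearMap.baseChange_eq_ltensor] using LinearMap.lTensor_surjective K this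
      let q := H.toSubmodule.mkQ.baseChange K
      have hexact : Function.Exact (H.toSubmodule.subtype.baseChange K) q := by
        have := lTensor_exact K (LinearMap.exact_subtype_mkQ H.toSubmodule)
          H.toSubmodule.mkQ_surjective
        simpa [q, LinearMap.baseChange_eq_ltensor] using this
      have hinj : Function.Injective (Tq.baseChange K) := LinearMap.injective_iff_surjective.mpr hTq
      obtain ⟨n, hn⟩ := (LieSubalgebra.mem_engel_iff _ _ _).mp hw
      clear hw
      refine (hexact _).mp ?_
      induction n generalizing w with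
      | zero => simp_all
      | succ n ih =>
        rw [pow_succ, Module.End.mul_apply] at hn
        have h1 := ih _ hn
        rw [hadx, ← LinearMap.comp_apply, ← LinearMap.baseChange_comp,
          show H.toSubmodule.mkQ ∘ₗ LieAlgebra.ad A L a = Tq ∘ₗ H.toSubmodule.mkQ from rfl,
          LinearMap.baseChange_comp, LinearMap.comp_apply] at h1
        exact hinj (h1.trans (map_zero _).symm)
  refine ⟨?_, fun w hw => ?_, ?_⟩
  · have := isNilpotent_engel (ha p)
    let j : K ⊗[A] H →ₗ[K] K ⊗[A] L := H.toSubmodule.subtype.baseChange K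
    have hj : Function.Injective j := baseChange_subtype_injective K
    have hjl : ∀ u v, j ⁅u, v⁆ = ⁅j u, j v⁆ := fun u v => (lieHomBaseChange K H.incl).map_lie u v
    have hjm : ∀ u, j u ∈ LieSubalgebra.engel K x := fun u => by
      rw [← LieSubalgebra.mem_toSubmodule, ← hfib]
      exact ⟨u, rfl⟩
    let J : (K ⊗[A] H) →ₗ⁅K⁆ LieSubalgebra.engel K x :=
      { toLinearMap := j.codRestrict (LieSubalgebra.engel K x).toSubmodule hjm
        map_lie' := fun {u v} => Subtype.ext (hjl u v) }
    exact Function.Injective.lieAlgebra_isNilpotent (R := K) (f := J)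
      fun u v e => hj (congrArg Subtype.val e)
  · rw [hfib, LieSubalgebra.mem_toSubmodule] at *
    rw [← LieSubalgebra.normalizer_engel K x, LieSubalgebra.mem_normalizer_iff]
    intro y hy
    have := hw y
    rw [LieSubalgebra.mem_toSubmodule] at this
    exact this hy
  · rw [hfib]
    exact (LieAlgebra.isRegular_iff_finrank_engel_eq_rank K x).mp (ha p)

end Converse

section Lift

theorem isRegular_lieEquiv {K V W : Type u} [Field K] [LieRing V] [LieAlgebra K V] [Module.Finite K V]
    [LieRing W] [LieAlgebra K W] [Module.Finite K W] (e : V ≃ₗ⁅K⁆ W) (x : V) :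
    LieAlgebra.IsRegular K (e x) ↔ LieAlgebra.IsRegular K x := by
  have : LieAlgebra.ad K W (e x) = e.toLinearEquiv.conj (LieAlgebra.ad K V x) := by
    ext y
    simp only [LinearEquiv.conj_apply, LieAlgebra.ad_apply, LinearMap.comp_apply, LinearEquiv.coe_coe]
    exact ((e.toLieHom.map_lie x (e.symm y)).trans (congrArg (fun z => ⁅e x, z⁆) (e.apply_symm_apply y))).symm
  rw [LieAlgebra.isRegular_def, LieAlgebra.isRegular_def, this, LinearEquiv.charpoly_conj,
    rank_eq_of_lieEquiv e]

theorem isRegular_smul {K V : Type u} [Field K] [LieRing V] [LieAlgebra K V] [Module.Finite K V]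
    {c : K} (hc : c ≠ 0) (x : V) : LieAlgebra.IsRegular K (c • x) ↔ LieAlgebra.IsRegular K x := by
  rw [LieAlgebra.isRegular_iff_finrank_engel_eq_rank, LieAlgebra.isRegular_iff_finrank_engel_eq_rank]
  have : LieSubalgebra.engel K (c • x) = LieSubalgebra.engel K x := by
    ext y
    simp only [LieSubalgebra.mem_engel_iff, map_smul, smul_pow, LinearMap.smul_apply, smul_eq_zero,
      pow_ne_zero _ hc, false_or]
  rw [this]

/-- Regularity at a prime can be computed at any prime above it after base change. -/
theorem isRegular_above {A : Type u} [CommRing A] {L : Type u} [LieRing L] [LieAlgebra A L]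
    [Module.Finite A L] (A' : Type u) [CommRing A'] [Algebra A A'] (q : PrimeSpectrum A)
    (q' : PrimeSpectrum A') (hq : q = PrimeSpectrum.comap (algebraMap A A') q') (a : L) :
    LieAlgebra.IsRegular q'.asIdeal.ResidueField
        ((1 : q'.asIdeal.ResidueField) ⊗ₜ[A'] ((1 : A') ⊗ₜ[A] a)) ↔
      LieAlgebra.IsRegular q.asIdeal.ResidueField ((1 : q.asIdeal.ResidueField) ⊗ₜ[A] a) := by
  let φ := Ideal.ResidueField.map q.asIdeal q'.asIdeal (algebraMap A A')
    (congrArg PrimeSpectrum.asIdeal hq)
  letI : Algebra q.asIdeal.ResidueField q'.asIdeal.ResidueField := φ.toAlgebra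
  haveI : IsScalarTower A q.asIdeal.ResidueField q'.asIdeal.ResidueField :=
    IsScalarTower.of_algebraMap_eq fun x => by
      rw [RingHom.algebraMap_toAlgebra, Ideal.ResidueField.map_algebraMap,
        ← IsScalarTower.algebraMap_apply A A' q'.asIdeal.ResidueField]
  rw [← isRegular_baseChange_field q'.asIdeal.ResidueField ((1 : q.asIdeal.ResidueField) ⊗ₜ[A] a),
    ← isRegular_lieEquiv (cancelLie A A' q'.asIdeal.ResidueField L),
    ← isRegular_lieEquiv (cancelLie A q.asIdeal.ResidueField q'.asIdeal.ResidueField L)]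
  have e1 : cancelLie A A' q'.asIdeal.ResidueField L ((1 : q'.asIdeal.ResidueField) ⊗ₜ[A'] ((1 : A') ⊗ₜ[A] a)) =
      (1 : q'.asIdeal.ResidueField) ⊗ₜ[A] a := by
    show TensorProduct.AlgebraTensorModule.cancelBaseChange A A' q'.asIdeal.ResidueField q'.asIdeal.ResidueField L _ = _
    rw [TensorProduct.AlgebraTensorModule.cancelBaseChange_tmul, one_smul]
  have e2 : cancelLie A q.asIdeal.ResidueField q'.asIdeal.ResidueField L
      ((1 : q'.asIdeal.ResidueField) ⊗ₜ[q.asIdeal.ResidueField] ((1 : q.asIdeal.ResidueField) ⊗ₜ[A] a)) =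
      (1 : q'.asIdeal.ResidueField) ⊗ₜ[A] a := by
    show TensorProduct.AlgebraTensorModule.cancelBaseChange A q.asIdeal.ResidueField q'.asIdeal.ResidueField
      q'.asIdeal.ResidueField L _ = _
    rw [TensorProduct.AlgebraTensorModule.cancelBaseChange_tmul, one_smul]
  rw [e1, e2]

/-- Every vector of a fibre is a scalar multiple of the image of an element. -/
theorem exists_eq_smul_tmul {A : Type u} [CommRing A] (p : Ideal A) [p.IsPrime] {M : Type u} [AddCommGroup M]
    [Module A M] (x : p.ResidueField ⊗[A] M) : ∃ (c : p.ResidueField) (m : M), c ≠ 0 ∧ x = c • ((1 : p.ResidueField) ⊗ₜ[A] m) := by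
  suffices h : ∃ (t : A) (m : M), t ∉ p ∧ t • x = (1 : p.ResidueField) ⊗ₜ[A] m by
    obtain ⟨t, m, ht, e⟩ := h
    have hne : algebraMap A p.ResidueField t ≠ 0 := fun h => ht (Ideal.algebraMap_residueField_eq_zero.mp h)
    exact ⟨(algebraMap A p.ResidueField t)⁻¹, m, inv_ne_zero hne, by
      rw [← e, ← algebraMap_smul p.ResidueField t x, smul_smul, inv_mul_cancel₀ hne, one_smul]⟩
  induction x using TensorProduct.induction_on with
  | zero => exact ⟨1, 0, fun h => ‹p.IsPrime›.ne_top ((Ideal.eq_top_iff_one p).mpr h), by simp⟩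
  | tmul c m =>
    obtain ⟨w, rfl⟩ := IsLocalRing.residue_surjective c
    obtain ⟨⟨y, t⟩, rfl⟩ := IsLocalization.mk'_surjective p.primeCompl w
    refine ⟨t, y • m, t.2, ?_⟩
    rw [TensorProduct.tmul_smul, TensorProduct.smul_tmul', TensorProduct.smul_tmul', Algebra.smul_def,
      Algebra.smul_def, mul_one]
    congr 1
    rw [IsScalarTower.algebraMap_apply A (Localization.AtPrime p) p.ResidueField,
      IsScalarTower.algebraMap_apply A (Localization.AtPrime p) p.ResidueField,
      ← IsLocalRing.ResidueField.algebraMap_eq, ← map_mul, IsLocalization.mk'_spec']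
  | add x y hx hy =>
    obtain ⟨t, m, ht, e⟩ := hx
    obtain ⟨t', m', ht', e'⟩ := hy
    refine ⟨t * t', t' • m + t • m', ‹p.IsPrime›.mul_notMem ht ht', ?_⟩
    rw [smul_add, TensorProduct.tmul_add, TensorProduct.tmul_smul, TensorProduct.tmul_smul, ← e, ← e',
      smul_smul, smul_smul, mul_comm t' t]

end Lift

end Groth.Agent.AdFibre
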