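import Groth.Agent.AdFibre.Engel
import Mathlib.Algebra.MvPolynomial.Funext
import Mathlib.Algebra.Lie.Rank

/-!
Over a reduced base with locally constant rank, quasi-regular elements are regular.
-/

universe u

open scoped TensorProduct
open Module Polynomial

namespace Groth.Agent.AdFibre

section

variable {R : Type u} [CommRing R] {M F : Type u} [AddCommGroup M] [Module R M] [AddCommGroup F] [Module R F]

theorem aeval_eq_zero_of_retract (f : F →ₗ[R] M) (s : M →ₗ[R] F) (hfs : f ∘ₗ s = LinearMap.id)
    (T : Module.End R M) (P : R[X]) (hP : aeval (s ∘ₗ T ∘ₗ f : Module.End R F) P = 0) : aeval T P = 0 := by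
  set g : Module.End R F := s ∘ₗ T ∘ₗ f with hg
  have hk : ∀ P : R[X], ∀ m, aeval g P (s m) = s (aeval T P m) := by
    intro P
    induction P using Polynomial.induction_on' with
    | add P Q hP hQ => intro m; simp [hP, hQ]
    | monomial k a =>
      intro m
      simp only [aeval_monomial, Module.algebraMap_end_apply, Module.End.mul_apply, map_smul]
      congr 1
      induction k generalizing m with
      | zero => simp
      | succ k ih =>
        rw [pow_succ, pow_succ, Module.End.mul_apply, Module.End.mul_apply, ← ih]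
        congr 1
        simp only [hg, LinearMap.comp_apply]
        rw [show f (s m) = m from LinearMap.congr_fun hfs m]
  refine LinearMap.ext fun m => ?_
  have h := hk P m
  rw [hP, LinearMap.zero_apply] at h
  have h2 := congrArg f h
  rw [map_zero, show f (s _) = _ from LinearMap.congr_fun hfs _] at h2
  simpa using h2.symm

/-- The Fitting decomposition of an endomorphism with `T ^ N = T ^ (N + 1) * U`. -/
theorem fitting {N : ℕ} (T U : Module.End R M) (hU : Commute T U) (h : T ^ N = T ^ (N + 1) * U) :
    ∃ e : Module.End R M, e * e = e ∧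
      (∀ x, e x = 0 ↔ ∃ n, (T ^ n) x = 0) ∧ ∃ W : Module.End R M, e = T * W * e := by
  refine ⟨T ^ N * U ^ N, ?_, fun x => ⟨fun hx => ⟨N, ?_⟩, fun ⟨n, hn⟩ => ?_⟩, U, ?_⟩
  all_goals have hstep : ∀ j, T ^ N = T ^ N * (T * U) ^ j := by
              intro j
              induction j with
              | zero => simp
              | succ j ih =>
                conv_lhs => rw [h]
                rw [pow_succ T N, mul_assoc]
                conv_lhs => rw [ih]
                rw [pow_succ, mul_assoc]
  · calc T ^ N * U ^ N * (T ^ N * U ^ N) = T ^ N * (T * U) ^ N * U ^ N := by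
          rw [hU.mul_pow, mul_assoc (T ^ N) (U ^ N), ← mul_assoc (U ^ N), ← (hU.pow_pow N N).eq]
          simp only [mul_assoc]
      _ = T ^ N * U ^ N := by rw [← hstep N]
  · rw [show T ^ N = T ^ N * (T ^ N * U ^ N) by rw [← hU.mul_pow]; exact hstep N, Module.End.mul_apply]
    simp [hx]
  · have h1 : (T ^ N) x = 0 := by
      rw [hstep n, hU.mul_pow, (hU.pow_pow n n).eq, Module.End.mul_apply, Module.End.mul_apply, hn,
        map_zero, map_zero]
    rw [(hU.pow_pow N N).eq, Module.End.mul_apply, h1, map_zero]
  · rw [show T * U * (T ^ N * U ^ N) = T ^ N * (T * U) * U ^ N by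
      rw [← mul_assoc, ((Commute.refl T).mul_left hU.symm).pow_right N |>.eq]]
    conv_lhs => rw [hstep 1, pow_one]

end

section

open SGA3t2b LieAlgebra

variable {A : Type u} [CommRing A] [IsReduced A] {L : Type u} [LieRing L] [LieAlgebra A L]
  [Module.Finite A L] [Module.Projective A L]

set_option maxHeartbeats 800000 in
/-- Over a reduced base on whose spectrum the rank is locally constant, the adjoint map of a
quasi-regular element of a base change has a Fitting decomposition. -/
theorem exists_fitting
    (hC0 : ∀ p : PrimeSpectrum A, ∃ f : A, f ∉ p.asIdeal ∧ ∀ q : PrimeSpectrum A, f ∉ q.asIdeal →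
        LieAlgebra.rank q.asIdeal.ResidueField (q.asIdeal.ResidueField ⊗[A] L) =
          LieAlgebra.rank p.asIdeal.ResidueField (p.asIdeal.ResidueField ⊗[A] L))
    (A' : Type u) [CommRing A'] [Algebra A A'] (a' : A' ⊗[A] L)
    (ha' : SGA3t2b.IsQuasiRegular A' (A' ⊗[A] L) a') :
    ∃ (N : ℕ) (U : Module.End A' (A' ⊗[A] L)), Commute (LieAlgebra.ad A' _ a') U ∧
      (LieAlgebra.ad A' _ a') ^ N = (LieAlgebra.ad A' _ a') ^ (N + 1) * U := by
  classical
  obtain ⟨n, f, s, -, -, hfs⟩ := Module.Finite.exists_comp_eq_id_of_projective A L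
  haveI : Module.FinitePresentation A L := Module.finitePresentation_of_projective A L
  let φ : (Fin n → A) →ₗ[A] Module.End A (Fin n → A) :=
    { toFun := fun y => s ∘ₗ LieAlgebra.ad A L (f y) ∘ₗ f
      map_add' := fun y y' => by ext; simp
      map_smul' := fun c y => by ext; simp }
  let b := Pi.basisFun A (Fin n)
  set Pg : (MvPolynomial (Fin n) A)[X] := LinearMap.polyCharpoly φ b with hPg
  -- the endomorphism attached to a point with values in an algebra
  have hG : ∀ (S : Type u) [CommRing S] [Algebra A S] (y : S ⊗[A] (Fin n → A)),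
      Pg.map (MvPolynomial.aeval fun i => (Algebra.TensorProduct.basis S b).repr y i).toRingHom =
        (s.baseChange S ∘ₗ LieAlgebra.ad S (S ⊗[A] L) (f.baseChange S y) ∘ₗ f.baseChange S).charpoly := by
    intro S _ _ y
    rw [hPg, LinearMap.polyCharpoly, LinearMap.polyCharpolyAux_map_aeval]
    congr 1
    rw [show (Algebra.TensorProduct.basis S b).repr.symm (Finsupp.equivFunOnFinite.symm
        fun i => (Algebra.TensorProduct.basis S b).repr y i) = y from by
      rw [show (Finsupp.equivFunOnFinite.symm fun i => (Algebra.TensorProduct.basis S b).repr y i) =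
        (Algebra.TensorProduct.basis S b).repr y from Finsupp.ext fun i => rfl, LinearEquiv.symm_apply_apply]]
    induction y using TensorProduct.induction_on with
    | zero => simp
    | add y y' hy hy' => simp only [map_add, LinearMap.comp_apply, hy, hy', LinearMap.add_comp, LinearMap.comp_add] at *
    | tmul c y =>
      ext z
      simp [φ, LinearMap.tensorProduct, TensorProduct.smul_tmul']
  let r : PrimeSpectrum A → ℕ := fun q =>
    LieAlgebra.rank q.asIdeal.ResidueField (q.asIdeal.ResidueField ⊗[A] L)
  let d : PrimeSpectrum A → ℕ := Module.rankAtStalk L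
  -- the vanishing of the lower coefficients of the generic polynomial
  have hvan : ∀ (q : PrimeSpectrum A) (k : ℕ), k + d q < r q + n → ∀ m,
      MvPolynomial.coeff m (Pg.coeff k) ∈ q.asIdeal := by
    intro q k hk m
    let K := AlgebraicClosure q.asIdeal.ResidueField
    have hd : finrank K (K ⊗[A] L) = d q := by
      rw [← (cancelLie A q.asIdeal.ResidueField K L).toLinearEquiv.finrank_eq, Module.finrank_baseChange,
        show d q = _ from Module.rankAtStalk_eq q]
    have hr : LieAlgebra.rank K (K ⊗[A] L) = r q := by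
      rw [← rank_eq_of_lieEquiv (cancelLie A q.asIdeal.ResidueField K L), rank_baseChange_field]
    suffices h : MvPolynomial.map (algebraMap A K) (Pg.coeff k) = 0 by
      have := congrArg (MvPolynomial.coeff m) h
      rw [MvPolynomial.coeff_map, MvPolynomial.coeff_zero,
        IsScalarTower.algebraMap_apply A q.asIdeal.ResidueField K,
        map_eq_zero_iff _ (algebraMap q.asIdeal.ResidueField K).injective] at this
      exact Ideal.algebraMap_residueField_eq_zero.mp this
    refine MvPolynomial.funext fun z => ?_
    rw [map_zero, MvPolynomial.eval_map]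
    let y := (Algebra.TensorProduct.basis K b).repr.symm (Finsupp.equivFunOnFinite.symm z)
    have hz : (fun i => (Algebra.TensorProduct.basis K b).repr y i) = z := by
      simp [y, Finsupp.equivFunOnFinite]
    have h1 := hG K y
    rw [hz] at h1
    have h2 := congrArg (fun Q : K[X] => X ^ finrank K (K ⊗[A] L) * Q) h1
    rw [charpoly_comp_comm] at h2
    have h3 := congrArg (fun Q : K[X] => Q.coeff (k + d q)) h2
    simp only [hd, Polynomial.coeff_X_pow_mul, Polynomial.coeff_map] at h3
    refine h3.trans ?_
    have hn : finrank K (K ⊗[A] (Fin n → A)) = n := by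
      rw [Module.finrank_eq_card_basis (Algebra.TensorProduct.basis K b), Fintype.card_fin]
    rw [hn, Polynomial.coeff_X_pow_mul']
    split
    · refine Polynomial.coeff_eq_zero_of_lt_natTrailingDegree ?_
      have hid : (LieAlgebra.ad K (K ⊗[A] L) (f.baseChange K y) ∘ₗ f.baseChange K) ∘ₗ s.baseChange K =
          LieAlgebra.ad K (K ⊗[A] L) (f.baseChange K y) := by
        rw [LinearMap.comp_assoc, ← LinearMap.baseChange_comp, hfs, LinearMap.baseChange_id]
        rfl
      rw [hid]
      refine lt_of_lt_of_le ?_ (LieAlgebra.rank_le_natTrailingDegree_charpoly_ad K _)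
      omega
    · rfl
  set T : Module.End A' (A' ⊗[A] L) := LieAlgebra.ad A' _ a'
  let z := fun i => (Algebra.TensorProduct.basis A' b).repr (s.baseChange A' a') i
  let ev := (MvPolynomial.aeval (R := A) z).toRingHom
  let P : A'[X] := Pg.map ev
  have hfs' : f.baseChange A' ∘ₗ s.baseChange A' = LinearMap.id := by
    rw [← LinearMap.baseChange_comp, hfs, LinearMap.baseChange_id]
  have hP : P = (s.baseChange A' ∘ₗ T ∘ₗ f.baseChange A').charpoly := by
    refine (hG A' (s.baseChange A' a')).trans ?_
    rw [← LinearMap.comp_apply (f.baseChange A') (s.baseChange A'), hfs']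
    rfl
  have hPT : aeval T P = 0 := by
    refine aeval_eq_zero_of_retract _ _ hfs' T P ?_
    rw [hP]
    exact LinearMap.aeval_self_charpoly _
  -- `X ^ n` is a combination of `X ^ (n + 1)` and `P`
  let J : Ideal A' :=
    { carrier := {c | ∃ U V : A'[X], C c * X ^ n = X ^ (n + 1) * U + P * V}
      zero_mem' := ⟨0, 0, by simp⟩
      add_mem' := by
        rintro c c' ⟨U, V, h⟩ ⟨U', V', h'⟩
        exact ⟨U + U', V + V', by rw [C_add, add_mul, h, h']; ring⟩
      smul_mem' := by
        rintro c c' ⟨U, V, h⟩
        exact ⟨C c * U, C c * V, by rw [smul_eq_mul, C_mul, mul_assoc, h]; ring⟩ }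
  have hJ : J = ⊤ := by
    by_contra hne
    obtain ⟨Q, hQ, hle⟩ := Ideal.exists_le_maximal J hne
    let q' : PrimeSpectrum A' := ⟨Q, hQ.isPrime⟩
    set q := PrimeSpectrum.comap (algebraMap A A') q' with hq
    obtain ⟨g, hg, hgr⟩ := hC0 q
    obtain ⟨_, ⟨g₂, rfl⟩, hg₂, hsub⟩ := PrimeSpectrum.isTopologicalBasis_basic_opens.exists_subset_of_mem_open
      (rfl : d q ∈ ({d q} : Set ℕ)) ((Module.isLocallyConstant_rankAtStalk (R := A) (M := L)).isOpen_fiber (d q))
    let K' := q'.asIdeal.ResidueField
    let φK := Ideal.ResidueField.map q.asIdeal q'.asIdeal (algebraMap A A') rfl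
    letI : Algebra q.asIdeal.ResidueField K' := φK.toAlgebra
    haveI : IsScalarTower A q.asIdeal.ResidueField K' :=
      IsScalarTower.of_algebraMap_eq fun x => by
        rw [RingHom.algebraMap_toAlgebra, Ideal.ResidueField.map_algebraMap,
          ← IsScalarTower.algebraMap_apply A A' K']
    let e := (cancelLie A A' K' L).trans (cancelLie A q.asIdeal.ResidueField K' L).symm
    have hr' : LieAlgebra.rank K' (K' ⊗[A'] (A' ⊗[A] L)) = r q := by
      rw [rank_eq_of_lieEquiv e, rank_baseChange_field]
    have hd' : finrank K' (K' ⊗[A'] (A' ⊗[A] L)) = d q := by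
      rw [e.toLinearEquiv.finrank_eq, Module.finrank_baseChange, show d q = _ from Module.rankAtStalk_eq q]
    have hrd : r q ≤ d q := by
      rw [← hr', ← hd']; exact LieAlgebra.rank_le_finrank K' _
    have hdn : d q ≤ n := by
      rw [show d q = _ from Module.rankAtStalk_eq q]
      have hsurj : Function.Surjective (f.baseChange q.asIdeal.ResidueField) := fun x =>
        ⟨s.baseChange _ x, by rw [← LinearMap.comp_apply, ← LinearMap.baseChange_comp, hfs, LinearMap.baseChange_id]; rfl⟩
      refine (LinearMap.finrank_le_finrank_of_surjective hsurj).trans_eq ?_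
      rw [Module.finrank_eq_card_basis (Algebra.TensorProduct.basis q.asIdeal.ResidueField b), Fintype.card_fin]
    obtain ⟨e0, he0⟩ : ∃ e0, e0 + d q = r q + n := ⟨r q + n - d q, by omega⟩
    -- the coefficients below `e0` die
    have hlow : ∀ k < e0, algebraMap A A' (g * g₂) * P.coeff k = 0 := by
      intro k hk
      have hz : MvPolynomial.C (g * g₂) * Pg.coeff k = 0 := by
        ext m
        rw [MvPolynomial.coeff_C_mul, MvPolynomial.coeff_zero]
        refine IsReduced.eq_zero _ (mem_nilradical.mp ?_)
        rw [nilradical_eq_sInf, Submodule.mem_sInf]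
        intro (q₁ : Ideal A) (hq₁ : q₁.IsPrime)
        by_cases h : g * g₂ ∈ q₁
        · exact q₁.mul_mem_right _ h
        · refine q₁.mul_mem_left _ (hvan ⟨q₁, hq₁⟩ k ?_ m)
          have h1 : r ⟨q₁, hq₁⟩ = r q := hgr ⟨q₁, hq₁⟩ fun hh => h (q₁.mul_mem_right _ hh)
          have h2 : d ⟨q₁, hq₁⟩ = d q := hsub (show g₂ ∉ q₁ from fun hh => h (q₁.mul_mem_left _ hh))
          omega
      have := congrArg ev hz
      rw [map_mul, map_zero] at this
      rw [Polynomial.coeff_map]
      simpa [ev] using this
    have htop : P.coeff e0 ∉ Q := by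
      intro hmem
      have hreg := ha' q'
      rw [LieAlgebra.isRegular_def, hr'] at hreg
      refine hreg ?_
      have h1 : P.map (algebraMap A' K') = ((s.baseChange A').baseChange K' ∘ₗ
          (T.baseChange K' ∘ₗ (f.baseChange A').baseChange K')).charpoly := by
        rw [hP, ← LinearMap.charpoly_baseChange, LinearMap.baseChange_comp, LinearMap.baseChange_comp]
      have hid : (T.baseChange K' ∘ₗ (f.baseChange A').baseChange K') ∘ₗ (s.baseChange A').baseChange K' =
          T.baseChange K' := by
        rw [LinearMap.comp_assoc, ← LinearMap.baseChange_comp, hfs', LinearMap.baseChange_id]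
        rfl
      have h2 := congrArg (fun Q : K'[X] => X ^ finrank K' (K' ⊗[A'] (A' ⊗[A] L)) * Q) h1
      rw [charpoly_comp_comm, hid] at h2
      have hn : finrank K' (K' ⊗[A'] (A' ⊗[A] (Fin n → A))) = n := by
        rw [Module.finrank_eq_card_basis (Algebra.TensorProduct.basis K' (Algebra.TensorProduct.basis A' b)),
          Fintype.card_fin]
      have h3 := congrArg (fun Q : K'[X] => Q.coeff (e0 + d q)) h2
      simp only [hd', hn, Polynomial.coeff_X_pow_mul, Polynomial.coeff_map] at h3
      rw [he0, Polynomial.coeff_X_pow_mul, Ideal.algebraMap_residueField_eq_zero.mpr hmem] at h3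
      rw [show LieAlgebra.ad K' (K' ⊗[A'] (A' ⊗[A] L)) ((1 : K') ⊗ₜ[A'] a') = T.baseChange K' from
        LieModule.toEnd_baseChange _ _ _ _ a']
      exact h3.symm
    -- factor
    have hdvd : X ^ e0 ∣ C (algebraMap A A' (g * g₂)) * P := by
      rw [Polynomial.X_pow_dvd_iff]
      intro k hk
      rw [Polynomial.coeff_C_mul, hlow k hk]
    obtain ⟨Q₁, hQ₁⟩ := hdvd
    set c := algebraMap A A' (g * g₂) * P.coeff e0
    have hc : c ∉ Q := by
      refine fun h => (hQ.isPrime.mem_or_mem h).elim ?_ htop
      intro h'
      exact (q.isPrime.mem_or_mem (show g * g₂ ∈ q.asIdeal from h')).elim hg hg₂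
    refine hc (hle ?_)
    have hQ0 : Q₁.coeff 0 = c := by
      have := congrArg (fun W : A'[X] => W.coeff (0 + e0)) hQ₁
      beta_reduce at this
      rw [Polynomial.coeff_C_mul, Polynomial.coeff_X_pow_mul, zero_add] at this
      exact this.symm
    obtain ⟨R₁, hR₁⟩ : X ∣ Q₁ - C c := by
      rw [Polynomial.X_dvd_iff, Polynomial.coeff_sub, hQ0, Polynomial.coeff_C_zero, sub_self]
    obtain ⟨j, hj⟩ : ∃ j, n = e0 + j := ⟨n - e0, by omega⟩
    refine ⟨-R₁, X ^ j * C (algebraMap A A' (g * g₂)), ?_⟩
    have hQ₁' : C c = Q₁ - X * R₁ := by rw [← hR₁]; ring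
    rw [hQ₁', hj, pow_succ, pow_add]
    linear_combination (-(X ^ j) : A'[X]) * hQ₁
  obtain ⟨U, V, hUV⟩ := (hJ ▸ Submodule.mem_top : (1 : A') ∈ J)
  refine ⟨n, aeval T U, ?_, ?_⟩
  · have := Commute.map (Commute.all (X : A'[X]) U) (aeval T)
    rwa [aeval_X] at this
  · have := congrArg (aeval T) hUV
    rw [map_one, one_mul, map_add, map_mul, map_mul, hPT, zero_mul, add_zero, map_pow, map_pow, aeval_X] at this
    exact this

end

end Groth.Agent.AdFibre
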