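import Groth.Agent.AdFibre.Engel
import Mathlib.Algebra.Lie.Weights.Cartan
import Mathlib.RingTheory.Localization.Away.Basic
import Mathlib.RingTheory.TensorProduct.IsBaseChangeHom

/-!
Regular sections of relative Cartan subalgebras.
-/

universe u

open scoped TensorProduct
open Module

namespace Groth.Agent.AdFibre

open SGA3t2b LieAlgebra

/-- A Cartan subalgebra of rank dimension over an infinite field contains a regular element. -/
theorem exists_regular_mem_of_isCartan {K V : Type u} [Field K] [Infinite K] [LieRing V] [LieAlgebra K V]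
    [Module.Finite K V] (H : LieSubalgebra K V) [H.IsCartanSubalgebra]
    (hd : finrank K H = LieAlgebra.rank K V) : ∃ x ∈ H, LieAlgebra.IsRegular K x := by
  classical
  have hmem : ∀ z, z ∈ H ↔ ∀ y ∈ H, z ∈ LieSubalgebra.engel K y := by
    intro z
    rw [← LieSubalgebra.mem_toLieSubmodule (K := H), ← LieAlgebra.rootSpace_zero_eq K V H,
      LieModule.mem_genWeightSpace]
    simp only [Pi.zero_apply, zero_smul, sub_zero, LieSubalgebra.mem_engel_iff, Subtype.forall]
    rfl
  have hne : ∃ n, ∃ x ∈ H, finrank K (LieSubalgebra.engel K x) = n := ⟨_, 0, H.zero_mem, rfl⟩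
  obtain ⟨x, hx, hxn⟩ := Nat.find_spec hne
  refine ⟨x, hx, (LieAlgebra.isRegular_iff_finrank_engel_eq_rank K x).mpr ?_⟩
  let E : {LieSubalgebra.engel K y | y ∈ H} := ⟨LieSubalgebra.engel K x, x, hx, rfl⟩
  have hU : H ≤ E := fun z hz => (hmem z).mp hz x hx
  have hmin : IsMin E := by
    rintro ⟨_, y, hy, rfl⟩ hyx
    have hle : finrank K (LieSubalgebra.engel K x) ≤ finrank K (LieSubalgebra.engel K y) := by
      rw [hxn]; exact Nat.find_min' hne ⟨y, hy, rfl⟩
    have e : LieSubalgebra.engel K y = LieSubalgebra.engel K x :=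
      LieSubalgebra.toSubmodule_injective (Submodule.eq_of_le_of_finrank_le hyx hle)
    exact e.ge
  have hbot := LieAlgebra.engel_isBot_of_isMin (Cardinal.natCast_le_aleph0.trans
    (Cardinal.infinite_iff.mp ‹Infinite K›)) H E hU hmin
  have e : LieSubalgebra.engel K x = H :=
    le_antisymm (fun z hz => (hmem z).mpr fun y hy => hbot ⟨_, y, hy, rfl⟩ hz) hU
  rw [e, hd]

variable {A : Type u} [CommRing A] {L : Type u} [LieRing L] [LieAlgebra A L]
  [Module.Finite A L] [Module.Projective A L]

theorem exists_regular_mem (H : LieSubalgebra A L) (hH : IsCartanRel H) (p : PrimeSpectrum A)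
    [Infinite p.asIdeal.ResidueField] :
    ∃ a ∈ H, LieAlgebra.IsRegular p.asIdeal.ResidueField ((1 : p.asIdeal.ResidueField) ⊗ₜ[A] a) := by
  set K := p.asIdeal.ResidueField
  let g := lieHomBaseChange K H.incl
  let HK : LieSubalgebra K (K ⊗[A] L) := g.range
  have hsub : HK.toSubmodule = fibreSubmodule p H := rfl
  have : HK.IsCartanSubalgebra := by
    refine ⟨?_, ?_⟩
    · have := (hH.2 p).1
      exact Function.Surjective.lieAlgebra_isNilpotent (R := K) (f := g.rangeRestrict) g.surjective_rangeRestrict
    · refine le_antisymm (fun z hz => ?_) (LieSubalgebra.le_normalizer _)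
      have hz' := (LieSubalgebra.mem_normalizer_iff _ _).mp hz
      exact (hH.2 p).2.1 z fun y hy => hz' y hy
  obtain ⟨x, hx, hreg⟩ := exists_regular_mem_of_isCartan HK (hH.2 p).2.2
  obtain ⟨w, rfl⟩ := hx
  obtain ⟨c, h, hc, rfl⟩ := exists_eq_smul_tmul p.asIdeal w
  refine ⟨h, h.2, (isRegular_smul hc _).mp ?_⟩
  have : g (c • ((1 : K) ⊗ₜ[A] h)) = c • ((1 : K) ⊗ₜ[A] (h : L)) := by
    rw [map_smul]; rfl
  exact this ▸ hreg

/-- Where `b` is regular, `H` agrees with its Engel subalgebra. -/
theorem exists_pow_smul_mem {H : LieSubalgebra A L} (hH : IsCartanRel H) {b : L} (hbH : b ∈ H) (f : A)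
    (hb : ∀ q : PrimeSpectrum A, f ∉ q.asIdeal →
      LieAlgebra.IsRegular q.asIdeal.ResidueField ((1 : q.asIdeal.ResidueField) ⊗ₜ[A] b))
    (y : L) (hy : y ∈ LieSubalgebra.engel A b) : ∃ n : ℕ, f ^ n • y ∈ H := by
  set Tq := adQuot H hbH
  set C := (L ⧸ H.toSubmodule) ⧸ LinearMap.range Tq
  -- the cokernel is killed by a power of `f`
  have hsup : Module.support A C ⊆ PrimeSpectrum.zeroLocus {f} := by
    intro q hq
    by_contra hf
    have hf' : f ∉ q.asIdeal := fun h => hf (by simpa [PrimeSpectrum.mem_zeroLocus] using h)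
    rw [Module.mem_support_iff_nontrivial_residueField_tensorProduct] at hq
    set K := q.asIdeal.ResidueField
    let π := (LinearMap.range Tq).mkQ.baseChange K
    have hπ : Function.Surjective π := by
      have := LinearMap.lTensor_surjective K (LinearMap.range Tq).mkQ_surjective
      simpa [π, LinearMap.baseChange_eq_ltensor] using this
    have h0 : π ∘ₗ Tq.baseChange K = 0 := by
      rw [← LinearMap.baseChange_comp, LinearMap.range_mkQ_comp, LinearMap.baseChange_zero]
    have hs : Function.Surjective (Tq.baseChange K) :=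
      LinearMap.surjective_of_injective (adQuot_fibre_injective hH hbH q (hb q hf'))
    refine not_subsingleton_iff_nontrivial.mpr hq ⟨fun u v => ?_⟩
    have key : ∀ z : K ⊗[A] C, z = 0 := fun z => by
      obtain ⟨w, rfl⟩ := hπ z
      obtain ⟨v, rfl⟩ := hs w
      exact LinearMap.congr_fun h0 v
    rw [key u, key v]
  rw [Module.support_eq_zeroLocus, ← PrimeSpectrum.zeroLocus_span {f},
    PrimeSpectrum.subset_zeroLocus_iff_le_vanishingIdeal,
    PrimeSpectrum.vanishingIdeal_zeroLocus_eq_radical, Ideal.span_le, Set.singleton_subset_iff] at hsup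
  obtain ⟨m, hm⟩ := hsup
  rw [Module.mem_annihilator] at hm
  -- hence `Tq` becomes surjective, so injective, after inverting `f`
  let M' := LocalizedModule (Submonoid.powers f) (L ⧸ H.toSubmodule)
  let ι' : (L ⧸ H.toSubmodule) →ₗ[A] M' := LocalizedModule.mkLinearMap (Submonoid.powers f) _
  let T' : M' →ₗ[Localization (Submonoid.powers f)] M' := LocalizedModule.map (Submonoid.powers f) Tq
  have hT' : ∀ (z : L ⧸ H.toSubmodule) (s : Submonoid.powers f),
      T' (LocalizedModule.mk z s) = LocalizedModule.mk (Tq z) s := fun z s => LocalizedModule.map_mk _ Tq z s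
  have hs : Function.Surjective T' := by
    intro w
    induction w using LocalizedModule.induction_on with
    | _ z s =>
      have h0 := hm (Submodule.Quotient.mk z)
      rw [← Submodule.Quotient.mk_smul, Submodule.Quotient.mk_eq_zero] at h0
      obtain ⟨v, hv⟩ := h0
      refine ⟨LocalizedModule.mk v ((⟨f ^ m, m, rfl⟩ : Submonoid.powers f) * s), ?_⟩
      rw [hT', hv]
      exact LocalizedModule.mk_cancel_common_left (⟨f ^ m, m, rfl⟩ : Submonoid.powers f) s z
  haveI : Module.Finite (Localization (Submonoid.powers f)) M' :=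
    Module.Finite.of_isLocalizedModule (Submonoid.powers f) ι'
  have hi : Function.Injective T' := OrzechProperty.injective_of_surjective_endomorphism _ hs
  obtain ⟨n, hn⟩ := (LieSubalgebra.mem_engel_iff _ _ _).mp hy
  have hzero : ι' (H.toSubmodule.mkQ y) = 0 := by
    clear hy
    induction n generalizing y with
    | zero => simp_all
    | succ n ih =>
      rw [pow_succ, Module.End.mul_apply] at hn
      have h1 := ih _ hn
      refine hi ?_
      rw [map_zero]
      refine (hT' _ 1).trans ?_
      exact h1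
  obtain ⟨⟨_, k, rfl⟩, hk⟩ := (IsLocalizedModule.eq_zero_iff (Submonoid.powers f) ι').mp hzero
  refine ⟨k, ?_⟩
  change f ^ k • y ∈ H.toSubmodule
  rw [← Submodule.Quotient.mk_eq_zero]
  exact hk

end Groth.Agent.AdFibre
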